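import Cfsg.Agent.EqLemmas
import Cfsg.Agent.Lib.Fusion.Group
import Cfsg.Agent.Lib.Fusion.Normal
import Cfsg.Agent.Lib.FusionNormal.Basic
import Cfsg.Agent.Lib.FusionIso.Subgroup
import Cfsg.Agent.Lib.FusionCrit.PrimeIndex
import Cfsg.Agent.Lib.FusionCrit.Residual
import Cfsg.Agent.Lib.Transfer.Focal
import Cfsg.Agent.Lib.PReduced.Basic

/-
Normal subsystems of the fusion system of a group `G` with `C_G(O_p(G)) ≤ O_p(G)` come from unique
normal subgroups.
Main results: `stab`, `stab_inf_ker_le`, `eq_one_of_twist`, `exists_coprime_rep`,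
`exists_normal_subgroup`, `normal_subgroup_unique`.
-/

set_option autoImplicit false

namespace Cfsg.Agent.FusionConstrained

open Cfsg Cfsg.FusionSystem Cfsg.Agent.Fusion
open scoped commutatorElement

variable {G : Type*} [Group G] {p : ℕ}

/-- The elements acting trivially on `A N / N`. -/
def stab (A N : Subgroup G) [N.Normal] : Subgroup G :=
  (Subgroup.centralizer (A.map (QuotientGroup.mk' N) : Set (G ⧸ N))).comap (QuotientGroup.mk' N)

theorem mem_stab {A N : Subgroup G} [N.Normal] {g : G} :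
    g ∈ stab A N ↔ ∀ a ∈ A, a⁻¹ * (g * a * g⁻¹) ∈ N := by
  have key : ∀ a : G, (QuotientGroup.mk' N a * QuotientGroup.mk' N g =
      QuotientGroup.mk' N g * QuotientGroup.mk' N a) ↔ a⁻¹ * (g * a * g⁻¹) ∈ N := fun a => by
    constructor
    · intro h
      refine QuotientGroup.eq.1 (show QuotientGroup.mk' N a = QuotientGroup.mk' N (g * a * g⁻¹) from ?_)
      rw [map_mul, map_mul, map_inv, ← h, mul_inv_cancel_right]
    · intro h
      have h' : QuotientGroup.mk' N a = QuotientGroup.mk' N (g * a * g⁻¹) := QuotientGroup.eq.2 h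
      conv_lhs => rw [h', ← map_mul, inv_mul_cancel_right]
      rw [map_mul]
  constructor
  · intro h a ha
    exact (key a).1 (Subgroup.mem_centralizer_iff.1 h _ ⟨a, ha, rfl⟩)
  · intro h
    refine Subgroup.mem_centralizer_iff.2 ?_
    rintro _ ⟨a, ha, rfl⟩
    exact (key a).2 (h a ha)

theorem stab_normal {A N : Subgroup G} [N.Normal] [hA : A.Normal] : (stab A N).Normal := by
  have : (A.map (QuotientGroup.mk' N)).Normal := hA.map _ (QuotientGroup.mk'_surjective N)
  unfold stab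
  infer_instance

theorem eq_one_of_twist {X : Type*} [Group X] {a u q : X} (h1 : a * q * a⁻¹ = q * u)
    (h2 : a * u * a⁻¹ = u) {n m : ℕ} (ha : a ^ n = 1) (hu : u ^ m = 1) (hc : n.Coprime m) : u = 1 := by
  have h : ∀ i : ℕ, a ^ i * q * (a ^ i)⁻¹ = q * u ^ i := by
    intro i
    induction i with
    | zero => simp
    | succ i ih =>
      have hau : Commute a u := by
        show a * u = u * a
        conv_rhs => rw [← h2, inv_mul_cancel_right]
      calc a ^ (i + 1) * q * (a ^ (i + 1))⁻¹ = a * (a ^ i * q * (a ^ i)⁻¹) * a⁻¹ := by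
            rw [pow_succ']; group
        _ = a * q * a⁻¹ * (a * u ^ i * a⁻¹) := by rw [ih]; group
        _ = q * u ^ (i + 1) := by
            rw [h1, (hau.pow_right i).eq, mul_inv_cancel_right, mul_assoc, ← pow_succ']
  have hn := h n
  rw [ha] at hn
  have hun : u ^ n = 1 := by simpa using hn
  have h' := pow_gcd_eq_one.2 ⟨hun, hu⟩
  rwa [hc.gcd_eq_one, pow_one] at h'

variable [Finite G] [Fact p.Prime]

/-- A `p'`-element realising an automorphism of order prime to `p`, in a submonoid of `G`. -/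
theorem exists_coprime_rep {X : Type*} [Group X] (φ : G → X) (Pr : G → Prop)
    (hφ : ∀ g, Pr g → ∀ n : ℕ, Pr (g ^ n) ∧ φ (g ^ n) = φ g ^ n) {g : G} (hg : Pr g)
    (hc : (orderOf (φ g)).Coprime p) :
    ∃ g' : G, (orderOf g').Coprime p ∧ Pr g' ∧ φ g' = φ g := by
  obtain ⟨k, hk⟩ := FusionChain.exists_pow_coprime p g
  obtain ⟨j, hj⟩ := exists_pow_eq_self_of_coprime (hc.pow_right k).symm
  refine ⟨(g ^ p ^ k) ^ j, hk.coprime_dvd_left (orderOf_pow_dvd j), ?_, ?_⟩
  · rw [← pow_mul]; exact (hφ g hg _).1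
  · rw [← pow_mul, (hφ g hg _).2, pow_mul, hj]

/-- The elements of `C_G(N)` acting trivially on `O_p(G) / N` lie in `O_p(G)`. -/
theorem stab_inf_ker_le (hG : Subgroup.centralizer ((pCore p G : Subgroup G) : Set G) ≤ pCore p G)
    (N : Subgroup G) [N.Normal] (hN : N ≤ pCore p G) :
    stab (pCore p G) N ⊓ Subgroup.centralizer (N : Set G) ≤ pCore p G := by
  set Q := pCore p G with hQdef
  have hQn : Q.Normal := PReduced.pCore_normal p G
  have hQp : IsPGroup p Q := PReduced.isPGroup_pCore p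
  have := @stab_normal G _ Q N _ hQn
  refine FusionChain.le_pCore_of_normal _ inferInstance
    (FusionChain.isPGroup_of_coprime_trivial fun x hx => ?_)
  obtain ⟨x, hxs, hxc⟩ := x
  have hx' : (orderOf x).Coprime p := by rwa [← Subgroup.orderOf_coe] at hx
  have hβ : (orderOf (MulAut.conjNormal x : MulAut Q)).Coprime p :=
    hx'.coprime_dvd_left (orderOf_map_dvd _ x)
  have hfix : ∀ q : Q, (MulAut.conjNormal x : MulAut Q) q = q := fun q => by
    refine FusionChain.eq_self_of_stab hQp _ hβ (N.subgroupOf Q) (fun u hu => Subtype.ext ?_) q ?_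
    · rw [MulAut.conjNormal_apply, ← Subgroup.mem_centralizer_iff.1 hxc u hu, mul_inv_cancel_right]
    · show (q : G)⁻¹ * ((MulAut.conjNormal x : MulAut Q) q : G) ∈ N
      rw [MulAut.conjNormal_apply]
      exact mem_stab.1 hxs q q.2
  have hxQ : x ∈ Q := hG (Subgroup.mem_centralizer_iff.2 fun q hq => by
    have := congrArg (Subtype.val) (hfix ⟨q, hq⟩)
    rw [MulAut.conjNormal_apply] at this
    exact (mul_inv_eq_iff_eq_mul.1 this).symm)
  obtain ⟨k, hk⟩ := IsPGroup.iff_orderOf.1 hQp ⟨x, hxQ⟩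
  rw [Subgroup.orderOf_mk] at hk
  rw [hk] at hx'
  refine Subtype.ext (orderOf_eq_one_iff.1 ?_)
  rw [hk]
  exact Nat.eq_one_of_dvd_coprimes hx' dvd_rfl (by
    rcases Nat.eq_zero_or_pos k with rfl | hk0
    · simp
    · exact absurd hx' (by
        rw [Nat.coprime_pow_left_iff hk0, Nat.coprime_self]
        exact (Fact.out : p.Prime).ne_one))

section Existence

variable (S : Sylow p G) {T : Subgroup G} {E : FusionSystem T}

theorem stronglyClosed_conj (hT : (groupFusionSystem (S : Subgroup G)).StronglyClosed T) {g x : G}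
    (hx : x ∈ T) (hgx : g * x * g⁻¹ ∈ (S : Subgroup G)) : g * x * g⁻¹ ∈ T := by
  refine (stronglyClosed_iff.1 hT).2 (Subgroup.zpowers x) (fun y => g * y * g⁻¹)
    (isMap_group_iff.2 ⟨Subgroup.zpowers_le.2 (hT.1 hx), g, fun y hy => ⟨?_, rfl⟩⟩) x
    (Subgroup.mem_zpowers x) hx
  obtain ⟨i, rfl⟩ := hy
  show g * x ^ i * g⁻¹ ∈ _
  rw [← conj_zpow]
  exact Subgroup.zpow_mem _ hgx i

theorem normal_pCore_inf (hT : (groupFusionSystem (S : Subgroup G)).StronglyClosed T) :
    (pCore p G ⊓ T).Normal := ⟨fun x hx g => by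
  have h := (PReduced.pCore_normal p G).conj_mem x hx.1 g
  exact ⟨h, stronglyClosed_conj S hT hx.2 (PReduced.pCore_le_sylow S h)⟩⟩

/-- A normal subsystem is the fusion system of a normal subgroup. -/
theorem exists_normal_subgroup
    (hG : Subgroup.centralizer ((pCore p G : Subgroup G) : Set G) ≤ pCore p G)
    (hE : E.IsNormalIn (groupFusionSystem (S : Subgroup G)) p) :
    ∃ H : Subgroup G, ∃ hTH : T ≤ H, H.Normal ∧ IsSylowIn p T H ∧
      E = fusionSystemOfSubgroup H T hTH := by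
  obtain ⟨⟨hEs, hF, hinv⟩, hext⟩ := hE
  set F := groupFusionSystem (S : Subgroup G) with hFdef
  have hT : F.StronglyClosed T := hinv.2.1
  have hTS : T ≤ (S : Subgroup G) := hT.1
  have hTp : IsPGroup p T := S.isPGroup'.to_le hTS
  set Q := pCore p G with hQdef
  have hQn : Q.Normal := PReduced.pCore_normal p G
  have hQp : IsPGroup p Q := PReduced.isPGroup_pCore p
  have hQS : Q ≤ (S : Subgroup G) := PReduced.pCore_le_sylow S
  set R := Q ⊓ T with hRdef
  haveI hRn : R.Normal := normal_pCore_inf S hT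
  have hRT : R ≤ T := inf_le_right
  have hTnS : ∀ s ∈ (S : Subgroup G), ∀ t ∈ T, s * t * s⁻¹ ∈ T := fun s hs t ht =>
    conj_mem_of_stronglyClosed hT hs ht
  set res : G →* MulAut R := MulAut.conjNormal with hres
  have hres_apply : ∀ (g : G) (x : R), ((res g x : R) : G) = g * x * g⁻¹ := fun g x =>
    MulAut.conjNormal_apply g x
  set A := E.autGroup R with hA
  set Y := stab Q R with hY
  haveI hYn : Y.Normal := stab_normal
  set M := A.comap res ⊓ Y with hM
  -- `R` is fully automized and receptive in `E`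
  have hRcl : E.StronglyClosed R := stronglyClosed_iff.2 ⟨hRT, fun P f hf x hxP hx => by
    obtain ⟨φ, hφ, e⟩ := hf
    obtain ⟨-, g, hg⟩ := isMap_group_iff.1 (⟨φ, hinv.1 P hφ, e⟩ : IsMap F P f)
    rw [(hg x hxP).2]
    exact hRn.conj_mem x hx g⟩
  have hRfn : E.IsFullyNormalized R := by
    refine ⟨hRT, fun R' hR' => le_of_eq ?_⟩
    obtain ⟨f, hf⟩ := isConj_iff.1 hR'
    rw [eq_of_le_of_card hRT (fun y hy => by
      obtain ⟨x, hx, rfl⟩ := hf.exists_eq hy
      exact (stronglyClosed_iff.1 hRcl).2 R f hf.1 x hx hx) hf.card_eq.ge]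
  have hAut : IsSylowIn p (autInducedBy T R) A :=
    (isFullyAutomized_iff.1 (fullyAutomized_of_fullyNormalized hTp hEs hRfn)).2
  have hAn : ∀ (g : G) (a : MulAut R), a ∈ A → res g * a * (res g)⁻¹ ∈ A := fun g a ha => by
    refine FusionNormal.conj_mem_autGroup hinv hRT ((mem_autGroup_iff (hRT.trans hTS)).2 ?_) ha
    refine isMap_group_iff.2 ⟨hRT.trans hTS, g, fun x hx => ⟨?_, ?_⟩⟩
    · exact hQS (hQn.conj_mem x hx.1 g)
    · rw [autFn_apply _ hx]; exact hres_apply g ⟨x, hx⟩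
  haveI hMn : M.Normal := by
    have : (A.comap res).Normal := ⟨fun n hn g => by
      show res (g * n * g⁻¹) ∈ A
      rw [map_mul, map_mul, map_inv]
      exact hAn g _ hn⟩
    exact Subgroup.normal_inf_normal _ _
  have hTM : T ≤ M := fun t ht => by
    refine ⟨autInducedBy_le_autGroup E le_rfl hRT
      (mem_autInducedBy_iff.2 ⟨t, ht, hres_apply t⟩), mem_stab.2 fun q hq => ?_⟩
    refine ⟨Q.mul_mem (Q.inv_mem hq) (hQn.conj_mem q hq t), ?_⟩
    have := T.mul_mem (hTnS q⁻¹ (inv_mem (hQS hq)) t ht) (inv_mem ht)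
    simpa [mul_assoc] using this
  set C := M ⊓ Subgroup.centralizer (R : Set G) with hC
  have hCQ : C ≤ Q := fun x hx => stab_inf_ker_le hG R inf_le_left ⟨hx.1.2, hx.2⟩
  haveI hCn : C.Normal := Subgroup.normal_inf_normal _ _
  set P := T ⊔ C with hP
  have hPS : P ≤ (S : Subgroup G) := sup_le hTS (hCQ.trans hQS)
  have hPM : P ≤ M := sup_le hTM inf_le_left
  have hPmem : ∀ {x : G}, x ∈ P → ∃ t ∈ T, ∃ c ∈ C, x = t * c := fun {x} hx => by
    have hx' : x ∈ ((T ⊔ C : Subgroup G) : Set G) := hx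
    rw [Subgroup.mul_normal] at hx'
    obtain ⟨t, ht, c, hc, e⟩ := Set.mem_mul.1 hx'
    exact ⟨t, ht, c, hc, e.symm⟩
  have hTP : (T.subgroupOf P).Normal := ⟨fun t ht x => hTnS x (hPS x.2) t ht⟩
  have hcopM : (P.relIndex M).Coprime p := by
    have e1 : P = M ⊓ (autInducedBy T R).comap res := by
      refine le_antisymm (le_inf hPM (sup_le (fun t ht => ?_) fun c hc => ?_)) fun x hx => ?_
      · exact mem_autInducedBy_iff.2 ⟨t, ht, hres_apply t⟩
      · refine mem_autInducedBy_iff.2 ⟨1, T.one_mem, fun y => ?_⟩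
        rw [hres_apply, ← Subgroup.mem_centralizer_iff.1 hc.2 y y.2]
        group
      · obtain ⟨t, ht, h⟩ := mem_autInducedBy_iff.1 hx.2
        have hc : t⁻¹ * x ∈ C := ⟨M.mul_mem (inv_mem (hTM ht)) hx.1,
          Subgroup.mem_centralizer_iff.2 fun y hy => by
            have := h ⟨y, hy⟩
            rw [hres_apply] at this
            have e : t⁻¹ * x * y * (t⁻¹ * x)⁻¹ = y := by
              calc _ = t⁻¹ * (x * y * x⁻¹) * t := by group
                _ = y := by rw [this]; group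
            exact (mul_inv_eq_iff_eq_mul.1 e).symm⟩
        rw [← mul_inv_cancel_left t x]
        exact Subgroup.mul_mem _ (Subgroup.mem_sup_left ht) (Subgroup.mem_sup_right hc)
    rw [e1, Subgroup.inf_relIndex_left, Subgroup.relIndex_comap]
    refine Nat.Coprime.coprime_dvd_left (?_ : _ ∣ (autInducedBy T R).relIndex A) ?_
    · have h1 : autInducedBy T R ≤ M.map res := fun a ha => by
        obtain ⟨t, ht, h⟩ := mem_autInducedBy_iff.1 ha
        exact ⟨t, hTM ht, MulEquiv.ext fun y => Subtype.ext ((hres_apply t y).trans (h y).symm)⟩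
      exact ⟨_, (Subgroup.relIndex_mul_relIndex _ _ A h1
        (Subgroup.map_le_iff_le_comap.2 inf_le_left)).symm⟩
    · obtain ⟨R', hR'⟩ := (isSylowIn_iff_exists hAut.1).1 hAut
      rw [Subgroup.relIndex, ← hR']
      exact ((Fact.out : p.Prime).coprime_iff_not_dvd.2 R'.not_dvd_index).symm
  -- the transfer
  set Ps := P.subgroupOf M with hPs
  have hPsp : IsPGroup p Ps := (isPGroup_subgroupOf hPM).2 (S.isPGroup'.to_le hPS)
  set Ts := (T.subgroupOf M).subgroupOf Ps with hTs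
  haveI hTsn : Ts.Normal := ⟨fun t ht x => hTnS _ (hPS x.2) _ ht⟩
  have hfoc : Ps.focalSubgroupOf ≤ Ts := by
    intro z hz
    have hle : Ps.focalSubgroup ≤ T.subgroupOf M := by
      rw [Subgroup.focalSubgroup_def, Subgroup.closure_le]
      rintro _ ⟨hz, x, hx, u, rfl⟩
      show ((⁅x, u⁆ : M) : G) ∈ T
      obtain ⟨t, ht, c, hc, e0⟩ := hPmem hx
      have e : (x : G) = t * c := e0
      set v := (u : G) with hv
      have hr : c * (v * c⁻¹ * v⁻¹) ∈ R := by
        have := mem_stab.1 u.2.2 c⁻¹ (inv_mem (hCQ hc))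
        rwa [inv_inv] at this
      have hS' : v * t⁻¹ * v⁻¹ ∈ (S : Subgroup G) := by
        have h1 : v * (x : G)⁻¹ * v⁻¹ ∈ (S : Subgroup G) := by
          have := Subgroup.mul_mem _ (inv_mem (hPS hx)) (hPS hz)
          simpa [commutatorElement_def, mul_assoc] using this
        have e' : v * t⁻¹ * v⁻¹ = (c * (v * c⁻¹ * v⁻¹))⁻¹ * c * (v * (x : G)⁻¹ * v⁻¹) := by
          rw [e]; group
        rw [e']
        exact Subgroup.mul_mem _ (Subgroup.mul_mem _ (inv_mem (hTS (hRT hr))) (hQS (hCQ hc))) h1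
      have hT' := stronglyClosed_conj S hT (inv_mem ht) hS'
      have e2 : ((⁅x, u⁆ : M) : G) = t * (c * (v * c⁻¹ * v⁻¹)) * (v * t⁻¹ * v⁻¹) := by
        show ⁅(x : G), v⁆ = _
        rw [commutatorElement_def, e]; group
      rw [e2]
      exact T.mul_mem (T.mul_mem ht (hRT hr)) hT'
    exact hle hz
  let ψ : M →* Ps ⧸ Ts :=
    (QuotientGroup.map Ps.focalSubgroupOf Ts (MonoidHom.id _) hfoc).comp Ps.transferFocal
  have hψP : ∀ x : Ps, ψ x = (QuotientGroup.mk x : Ps ⧸ Ts) ^ Ps.index := fun x => by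
    show QuotientGroup.map Ps.focalSubgroupOf Ts (MonoidHom.id _) hfoc (Ps.transferFocal x) = _
    rw [Subgroup.transferFocal_eq_pow, map_pow]
    rfl
  have hψp : IsPGroup p (Ps ⧸ Ts) := hPsp.to_quotient Ts
  -- the generators
  let W : Set G := {x | (∃ g, ∃ t ∈ T, x = g * t * g⁻¹) ∨ (x ∈ M ∧ (orderOf x).Coprime p)}
  set H := Subgroup.closure W with hH
  have hWconj : ∀ x ∈ W, ∀ g : G, g * x * g⁻¹ ∈ W := by
    rintro x (⟨a, t, ht, rfl⟩ | ⟨hxM, hxo⟩) g
    · exact Or.inl ⟨g * a, t, ht, by group⟩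
    · exact Or.inr ⟨hMn.conj_mem x hxM g, by
        rwa [show g * x * g⁻¹ = MulAut.conj g x from rfl, MulEquiv.orderOf_eq]⟩
  haveI hHn : H.Normal := ⟨fun x hx g => by
    induction hx using Subgroup.closure_induction with
    | mem y hy => exact Subgroup.subset_closure (hWconj y hy g)
    | one => simp
    | mul a b _ _ ha hb =>
      rw [show g * (a * b) * g⁻¹ = g * a * g⁻¹ * (g * b * g⁻¹) by group]
      exact mul_mem ha hb
    | inv a _ ha =>
      rw [show g * a⁻¹ * g⁻¹ = (g * a * g⁻¹)⁻¹ by group]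
      exact inv_mem ha⟩
  have hPsy : IsSylowIn p P M := by
    refine (isSylowIn_iff_exists hPM).2
      ⟨hPsp.toSylow ((Fact.out : p.Prime).coprime_iff_not_dvd.1 hcopM.symm), rfl⟩
  have hWker : W ⊆ ((ψ.ker).map M.subtype : Set G) := by
    rintro x (⟨g, t, ht, rfl⟩ | ⟨hxM, hxo⟩)
    · have hxM : g * t * g⁻¹ ∈ M := hMn.conj_mem t (hTM ht) g
      refine ⟨⟨_, hxM⟩, ?_, rfl⟩
      have hzp : IsPGroup p (Subgroup.zpowers (g * t * g⁻¹)) := by
        rw [show g * t * g⁻¹ = (MulAut.conj g).toMonoidHom t from rfl, ← MonoidHom.map_zpowers]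
        exact (hTp.to_le (Subgroup.zpowers_le.2 ht)).map _
      obtain ⟨m, hm, hmP⟩ := hPsy.exists_conj_le hzp (Subgroup.zpowers_le.2 hxM)
      have hmT : m * (g * t * g⁻¹) * m⁻¹ ∈ T := by
        have h1 := hPS (hmP _ (Subgroup.mem_zpowers _))
        rw [show m * (g * t * g⁻¹) * m⁻¹ = (m * g) * t * (m * g)⁻¹ by group] at h1 ⊢
        exact stronglyClosed_conj S hT ht h1
      let z : Ps := ⟨⟨_, hTM hmT⟩, Subgroup.mem_sup_left hmT⟩
      have hz : (QuotientGroup.mk z : Ps ⧸ Ts) = 1 := (QuotientGroup.eq_one_iff z).2 hmT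
      have h2 : ψ (z : M) = 1 := by rw [hψP, hz, one_pow]
      have h3 : (⟨_, hxM⟩ : M) = (⟨m, hm⟩ : M)⁻¹ * (z : M) * ⟨m, hm⟩ :=
        Subtype.ext (show g * t * g⁻¹ = m⁻¹ * (m * (g * t * g⁻¹) * m⁻¹) * m by group)
      rw [SetLike.mem_coe, MonoidHom.mem_ker, h3, map_mul, map_mul, h2, mul_one, map_inv,
        inv_mul_cancel]
    · refine ⟨⟨x, hxM⟩, ?_, rfl⟩
      obtain ⟨k, hk⟩ := IsPGroup.iff_orderOf.1 hψp (ψ ⟨x, hxM⟩)
      have h1 : orderOf (ψ ⟨x, hxM⟩) ∣ orderOf x := by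
        rw [← Subgroup.orderOf_mk x hxM]; exact orderOf_map_dvd ψ _
      rw [SetLike.mem_coe, MonoidHom.mem_ker]
      exact orderOf_eq_one_iff.1 (Nat.eq_one_of_dvd_coprimes hxo h1 (by
        rw [hk] at h1 ⊢
        rcases Nat.eq_zero_or_pos k with rfl | hk0
        · simp
        · exact absurd ((hxo.coprime_dvd_left h1)) (by
            rw [Nat.coprime_pow_left_iff hk0, Nat.coprime_self]
            exact (Fact.out : p.Prime).ne_one)))
  have hHker : H ≤ (ψ.ker).map M.subtype := (Subgroup.closure_le _).2 hWker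
  have hHM : H ≤ M := hHker.trans (Subgroup.map_subtype_le _)
  have hTH : T ≤ H := fun t ht => Subgroup.subset_closure (Or.inl ⟨1, t, ht, by group⟩)
  have hHP : H ⊓ P ≤ T := by
    rintro x ⟨hxH, hxP⟩
    obtain ⟨y, hy, rfl⟩ := hHker hxH
    let z : Ps := ⟨y, hxP⟩
    have h1 : (QuotientGroup.mk z : Ps ⧸ Ts) ^ Ps.index = 1 := (hψP z).symm.trans hy
    obtain ⟨k, hk⟩ := IsPGroup.iff_orderOf.1 hψp (QuotientGroup.mk z)
    have h2 := orderOf_dvd_of_pow_eq_one h1
    rw [hk] at h2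
    have h3 : p ^ k = 1 :=
      Nat.eq_one_of_dvd_coprimes (hcopM.symm.pow_left k) dvd_rfl h2
    exact (QuotientGroup.eq_one_iff z).1 (orderOf_eq_one_iff.1 (hk.trans h3))
  have hHT : IsSylowIn p T H := by
    refine ⟨hTH, hTp, fun D hTD hDH hD => ?_⟩
    obtain ⟨m, hm, hmP⟩ := hPsy.exists_conj_le hD (hDH.trans hHM)
    have hle : D.map (MulAut.conj m).toMonoidHom ≤ T := by
      rintro _ ⟨x, hx, rfl⟩
      exact hHP ⟨hHn.conj_mem x (hDH hx) m, hmP x hx⟩
    have hcard : Nat.card D ≤ Nat.card T := by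
      rw [← Subgroup.card_map_of_injective (f := (MulAut.conj m).toMonoidHom)
        (MulAut.conj m).injective]
      exact Subgroup.card_le_of_le hle
    exact (Subgroup.eq_of_le_of_card_ge hTD hcard).symm
  have hCT : ∀ x ∈ T, x ∈ Subgroup.centralizer (R : Set G) → x ∈ R := fun x hxT hx =>
    ⟨hCQ ⟨hTM hxT, hx⟩, hxT⟩
  refine ⟨H, hTH, hHn, hHT, ?_⟩
  set FH := fusionSystemOfSubgroup H T hTH with hFH
  have hFHs : FH.IsSaturated p := FusionIso.isSaturated_subgroup hHT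
  haveI : Finite T := inferInstance
  -- the automorphisms of `T`
  have hTcopr : ∀ α ∈ E.autGroup T, (orderOf α).Coprime p →
      ∃ g ∈ H, ∀ x : T, ((α x : T) : G) = g * x * g⁻¹ := by
    classical
    intro α hα hαo
    obtain ⟨β, hβ, hβT, hβC⟩ := hext α hα
    have hU : T ⊔ centralizerIn (S : Subgroup G) T ≤ (S : Subgroup G) := sup_le hTS inf_le_left
    obtain ⟨-, g₀, hg₀⟩ := isMap_group_iff.1 ((mem_autGroup_iff hU).1 hβ)
    let Pr : G → Prop := fun g => (∀ t ∈ T, g * t * g⁻¹ ∈ T) ∧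
      ∀ c ∈ centralizerIn (S : Subgroup G) T,
        c⁻¹ * (g * c * g⁻¹) ∈ T ⊓ Subgroup.centralizer (T : Set G)
    let N : Subgroup G := Subgroup.normalizer (T : Set G)
    have hPrN : ∀ g, Pr g → g ∈ N := fun g hg =>
      (mem_normalizerIn_of_conj (S := ⊤) (Subgroup.mem_top g) hg.1).2
    let φ : G → MulAut T := fun g => if h : g ∈ N then Subgroup.normalizerMonoidHom T ⟨g, h⟩ else 1
    have hφapp : ∀ g (h : g ∈ N) (x : T), ((φ g x : T) : G) = g * x * g⁻¹ := fun g h x => by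
      simp only [φ, dif_pos h]
      rfl
    have hPrpow : ∀ g, Pr g → ∀ n : ℕ, Pr (g ^ n) ∧ φ (g ^ n) = φ g ^ n := by
      intro g hg n
      have hgN := hPrN g hg
      constructor
      · induction n with
        | zero =>
          refine ⟨fun t ht => by simpa using ht, fun c _ => ?_⟩
          simp
        | succ n ih =>
          refine ⟨fun t ht => ?_, fun c hc => ?_⟩
          · rw [pow_succ', show g * g ^ n * t * (g * g ^ n)⁻¹ = g * (g ^ n * t * (g ^ n)⁻¹) * g⁻¹ by group]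
            exact hg.1 _ (ih.1 t ht)
          · have h1 := ih.2 c hc
            have h2 := hg.2 c hc
            have h3 : g * (c⁻¹ * (g ^ n * c * (g ^ n)⁻¹)) * g⁻¹ ∈
                T ⊓ Subgroup.centralizer (T : Set G) := by
              refine ⟨hg.1 _ h1.1, Subgroup.mem_centralizer_iff.2 fun t ht => ?_⟩
              have ht' : g⁻¹ * t * g ∈ T := ((Subgroup.mem_normalizer_iff''.1 hgN) t).1 ht
              have := Subgroup.mem_centralizer_iff.1 h1.2 _ ht'
              calc t * (g * (c⁻¹ * (g ^ n * c * (g ^ n)⁻¹)) * g⁻¹)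
                  = g * ((g⁻¹ * t * g) * (c⁻¹ * (g ^ n * c * (g ^ n)⁻¹))) * g⁻¹ := by group
                _ = g * ((c⁻¹ * (g ^ n * c * (g ^ n)⁻¹)) * (g⁻¹ * t * g)) * g⁻¹ := by rw [this]
                _ = _ := by group
            have := mul_mem h2 h3
            rw [pow_succ']
            convert this using 1
            group
      · have h : ∀ m : ℕ, g ^ m ∈ N := fun m => pow_mem hgN m
        simp only [φ, dif_pos hgN, dif_pos (h n)]
        rw [← map_pow]
        rfl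
    have hg₀Pr : Pr g₀ := by
      refine ⟨fun t ht => ?_, fun c hc => ?_⟩
      · have h1 := hβT ⟨t, ht⟩
        have h2 := (hg₀ t (Subgroup.mem_sup_left ht)).2
        rw [autFn_apply β (Subgroup.mem_sup_left ht)] at h2
        rw [← h2]
        exact (congrArg (· ∈ T) h1).mpr (α ⟨t, ht⟩).2
      · have h1 := hβC ⟨c, Subgroup.mem_sup_right hc⟩ hc
        have h2 := (hg₀ c (Subgroup.mem_sup_right hc)).2
        rw [autFn_apply β (Subgroup.mem_sup_right hc)] at h2
        rwa [h2] at h1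
    have hφg : φ g₀ = α := MulEquiv.ext fun t => Subtype.ext (by
      have h1 := hβT t
      have h2 := (hg₀ t (Subgroup.mem_sup_left t.2)).2
      rw [autFn_apply β (Subgroup.mem_sup_left t.2)] at h2
      rw [hφapp g₀ (hPrN g₀ hg₀Pr), ← h2]
      exact h1)
    obtain ⟨g, hgo, hgP, hgα⟩ := exists_coprime_rep φ Pr hPrpow hg₀Pr (by rwa [hφg])
    rw [hφg] at hgα
    have hgapp : ∀ x : T, ((α x : T) : G) = g * x * g⁻¹ := fun x => by
      exact (congrArg (fun a : MulAut T => ((a x : T) : G)) hgα.symm).trans (hφapp g (hPrN g hgP) x)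
    refine ⟨g, Subgroup.subset_closure (Or.inr ⟨⟨?_, mem_stab.2 fun q hq => ?_⟩, hgo⟩), hgapp⟩
    · have hm : IsMap E R (autFn (res g)) := by
        refine (((mem_autGroup_iff le_rfl).1 hα).mono hRT).congr fun x hx => ?_
        rw [autFn_apply α (hRT hx), autFn_apply (res g) hx, hgapp, hres_apply]
      exact (mem_autGroup_iff hRT).2 hm
    · -- `g` centralises `Q / R`
      set u := q⁻¹ * (g * q * g⁻¹) with hu
      have huQ : u ∈ Q := Q.mul_mem (Q.inv_mem hq) (hQn.conj_mem q hq g)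
      have hsQ : ∀ s ∈ (S : Subgroup G), ∀ x : T, s * x * s⁻¹ ∈ T := fun s hs x => hTnS s hs x x.2
      obtain ⟨γ, hγ, hγe⟩ : ∃ γ ∈ autInducedBy (S : Subgroup G) T,
          ∀ x : T, ((γ x : T) : G) = q⁻¹ * x * q⁻¹⁻¹ := by
        have hm : q⁻¹ ∈ normalizerIn (S : Subgroup G) T :=
          mem_normalizerIn_of_conj (inv_mem (hQS hq)) fun x hx => hTnS _ (inv_mem (hQS hq)) x hx
        exact ⟨normConj _ T ⟨q⁻¹, hm⟩, (range_normConj _ T).le ⟨_, rfl⟩, fun x => rfl⟩
      have hδE : γ * α * γ⁻¹ * α⁻¹ ∈ E.autGroup T :=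
        mul_mem (FusionNormal.conj_mem_autGroup hinv le_rfl
          (autInducedBy_le_autGroup F le_rfl hTS hγ) hα) (inv_mem hα)
      have hgi : ∀ x : T, ((α⁻¹ x : T) : G) = g⁻¹ * x * g := fun x => by
        have := hgapp (α⁻¹ x)
        rw [MulAut.apply_inv_self] at this
        rw [this]; group
      have hγi : ∀ x : T, ((γ⁻¹ x : T) : G) = q * x * q⁻¹ := fun x => by
        have := hγe (γ⁻¹ x)
        rw [MulAut.apply_inv_self] at this
        rw [this]; group
      have hδ : ∀ x : T, (((γ * α * γ⁻¹ * α⁻¹) x : T) : G) = u * x * u⁻¹ := fun x => by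
        simp only [MulAut.mul_apply, hγe, hgapp, hγi, hgi, hu]
        group
      have hAT : IsSylowIn p (autInducedBy T T) (E.autGroup T) :=
        (isFullyAutomized_iff.1 (fullyAutomized_of_fullyNormalized hTp hEs
          (isFullyNormalized_self E))).2
      set δ := γ * α * γ⁻¹ * α⁻¹ with hδdef
      have hδp : IsPGroup p (Subgroup.zpowers δ) :=
        (isPGroup_autInducedBy (P := T) (S.isPGroup')).to_le
          (Subgroup.zpowers_le.2 (mem_autInducedBy_iff.2 ⟨u, hQS huQ, hδ⟩))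
      obtain ⟨a, ha, hac⟩ := hAT.exists_conj_le hδp (Subgroup.zpowers_le.2 hδE)
      obtain ⟨t₀, ht₀, hte⟩ := mem_autInducedBy_iff.1 (hac δ (Subgroup.mem_zpowers δ))
      -- conjugate back: inner automorphisms are normal
      obtain ⟨t, ht, htδ⟩ : ∃ t ∈ T, ∀ x : T, ((δ x : T) : G) = t * x * t⁻¹ := by
        refine ⟨((a⁻¹ ⟨t₀, ht₀⟩ : T) : G), (a⁻¹ ⟨t₀, ht₀⟩).2, fun x => ?_⟩
        have h := hte (a x)
        simp only [MulAut.mul_apply, MulAut.inv_apply_self] at h
        have h' : a (δ x) = ⟨t₀, ht₀⟩ * a x * ⟨t₀, ht₀⟩⁻¹ := Subtype.ext h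
        have h'' := congrArg (fun y => ((a⁻¹ y : T) : G)) h'
        simpa using h''
      have hc : t⁻¹ * u ∈ centralizerIn (S : Subgroup G) T := by
        refine mem_centralizerIn.2 ⟨Subgroup.mul_mem _ (inv_mem (hTS ht)) (hQS huQ), fun x hx => ?_⟩
        have h1 := htδ ⟨x, hx⟩
        rw [hδ] at h1
        have e : t⁻¹ * u * x * (t⁻¹ * u)⁻¹ = x := by
          calc _ = t⁻¹ * (u * x * u⁻¹) * t := by group
            _ = x := by rw [h1]; group
        exact mul_inv_eq_iff_eq_mul.1 e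
      have hstep : u⁻¹ * (g * u * g⁻¹) ∈ R := by
        refine ⟨Q.mul_mem (Q.inv_mem huQ) (hQn.conj_mem u huQ g), ?_⟩
        set c := t⁻¹ * u with hcdef
        have hz := hgP.2 c hc
        have hw : t⁻¹ * (g * t * g⁻¹) ∈ T := T.mul_mem (inv_mem ht) (hgP.1 t ht)
        have e : u⁻¹ * (g * u * g⁻¹) = t⁻¹ * (g * t * g⁻¹) * (c⁻¹ * (g * c * g⁻¹)) := by
          have hcomm := (mem_centralizerIn.1 hc).2 _ hw
          rw [show u = t * c by rw [hcdef, mul_inv_cancel_left]]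
          calc (t * c)⁻¹ * (g * (t * c) * g⁻¹)
              = c⁻¹ * ((t⁻¹ * (g * t * g⁻¹)) * c) * (c⁻¹ * (g * c * g⁻¹)) := by group
            _ = c⁻¹ * (c * (t⁻¹ * (g * t * g⁻¹))) * (c⁻¹ * (g * c * g⁻¹)) := by rw [hcomm]
            _ = _ := by group
        rw [e]
        exact T.mul_mem hw hz.1
      obtain ⟨k, hk⟩ := hQp ⟨u, huQ⟩
      have hk' : u ^ p ^ k = 1 := congrArg Subtype.val hk
      refine (QuotientGroup.eq_one_iff u).1 (eq_one_of_twist (a := QuotientGroup.mk' R g)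
        (q := QuotientGroup.mk' R q) (u := QuotientGroup.mk' R u) ?_ ?_ (n := orderOf g)
        (m := p ^ k) ?_ ?_ (hgo.pow_right k))
      · rw [← map_inv, ← map_mul, ← map_mul, ← map_mul, hu, mul_inv_cancel_left]
      · rw [← map_inv, ← map_mul, ← map_mul]
        exact (QuotientGroup.eq.2 hstep).symm
      · rw [← map_pow, pow_orderOf_eq_one, map_one]
      · rw [← map_pow, hk', map_one]
  -- `p`-elements
  have hpel : ∀ P₁, P₁ ≤ T → ∀ α ∈ E.autGroup P₁, (∃ k, orderOf α = p ^ k) →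
      ∃ g ∈ H, ∀ x : P₁, ((α x : P₁) : G) = g * x * g⁻¹ := by
    intro P₁ hP₁ α hα hk
    obtain ⟨k, hk⟩ := hk
    obtain ⟨R₁, hR₁, hA₁, -⟩ := hEs P₁ hP₁
    obtain ⟨f₀, hf₀⟩ := isConj_iff.1 hR₁
    have hp : IsPGroup p (Subgroup.zpowers α) :=
      IsPGroup.of_card (n := k) ((Nat.card_zpowers α).trans hk)
    obtain ⟨a, ha, hac⟩ := (isFullyAutomized_iff.1 hA₁).2.exists_conj_le
      (hp.map (MulAut.congr hf₀.equiv).toMonoidHom) (by
        rintro _ ⟨b, hb, rfl⟩
        exact Fusion.congr_mem_autGroup hf₀ ((Subgroup.zpowers_le.2 hα) hb))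
    obtain ⟨t, ht, hte⟩ := mem_autInducedBy_iff.1 (hac _ ⟨α, Subgroup.mem_zpowers α, rfl⟩)
    have hf := hf₀.trans (isIso_autFn hA₁.1 ha)
    obtain ⟨-, g₀, hg₀⟩ := isMap_group_iff.1 (FusionNormal.isMap_of_sub hinv.1 hf.1)
    refine ⟨g₀⁻¹ * t * g₀⁻¹⁻¹, hHn.conj_mem t (hTH ht) _, fun x => ?_⟩
    have h := hte (a (hf₀.equiv x))
    rw [MulAut.mul_apply, MulAut.mul_apply, MulAut.inv_apply_self] at h
    have e1 : ∀ y : P₁, ((a (hf₀.equiv y) : R₁) : G) = g₀ * y * g₀⁻¹ := fun y => by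
      exact (autFn_apply a (hf₀.mem y.2)).symm.trans (hg₀ y y.2).2
    have h' : g₀ * (α x : P₁) * g₀⁻¹ = t * (g₀ * x * g₀⁻¹) * t⁻¹ := by
      rw [← e1, ← e1]
      refine Eq.trans ?_ h
      exact congrArg (fun y : R₁ => ((a y : R₁) : G))
        (Subtype.ext (congr_apply_coe hf₀ α x).symm)
    calc ((α x : P₁) : G) = g₀⁻¹ * (g₀ * (α x : P₁) * g₀⁻¹) * g₀ := by group
      _ = _ := by rw [h']; group
  have hautT : ∀ α ∈ E.autGroup T, ∃ g ∈ H, ∀ x : T, ((α x : T) : G) = g * x * g⁻¹ := by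
    let B : Subgroup (MulAut T) := autInducedBy H T
    intro α hα
    refine mem_autInducedBy_iff.1 (?_ : α ∈ B)
    have : Finite (MulAut T) := finite_mulAut hTS
    obtain ⟨k, hk⟩ := FusionChain.exists_pow_coprime p α
    obtain ⟨a, m, hm, he⟩ := Nat.exists_eq_pow_mul_and_not_dvd (orderOf_pos α).ne' p
      (Fact.out : p.Prime).ne_one
    have hmc : (p ^ a).Coprime m := ((Fact.out : p.Prime).coprime_iff_not_dvd.2 hm).pow_left a
    have h1 : α ^ p ^ a ∈ B := by
      obtain ⟨g, hg, h⟩ := hTcopr _ (pow_mem hα _) (by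
        rw [orderOf_pow_of_dvd (pow_ne_zero _ (Fact.out : p.Prime).ne_zero) (he ▸ dvd_mul_right _ _),
          he, Nat.mul_div_cancel_left _ (pow_pos (Fact.out : p.Prime).pos a)]
        exact ((Fact.out : p.Prime).coprime_iff_not_dvd.2 hm).symm)
      exact mem_autInducedBy_iff.2 ⟨g, hg, h⟩
    have h2 : α ^ m ∈ B := by
      obtain ⟨g, hg, h⟩ := hpel T le_rfl _ (pow_mem hα _) ⟨a, by
        have hm0 : m ≠ 0 := fun h => hm (h ▸ dvd_zero p)
        rw [orderOf_pow_of_dvd hm0 (he ▸ dvd_mul_left _ _), he,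
          Nat.mul_div_cancel _ (Nat.pos_of_ne_zero hm0)]⟩
      exact mem_autInducedBy_iff.2 ⟨g, hg, h⟩
    obtain ⟨x, y, hxy⟩ : ∃ x y : ℤ, x * (p ^ a : ℕ) + y * m = 1 := by
      obtain ⟨x, y, h⟩ := Nat.isCoprime_iff_coprime.2 hmc
      exact ⟨x, y, h⟩
    have := mul_mem (zpow_mem h1 x) (zpow_mem h2 y)
    rwa [← zpow_natCast α (p ^ a), ← zpow_natCast α m, ← zpow_mul, ← zpow_mul, ← zpow_add,
      mul_comm _ x, mul_comm _ y, hxy, zpow_one] at this
  have hsub : E ≤ FH := by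
    refine le_of_isMap fun P₁ f hf => ?_
    have hgen : ∀ {P₁ : Subgroup G} {f : G → G}, FusionCrit.Gen E p P₁ f → IsMap FH P₁ f := by
      intro P₁ f hf
      induction hf with
      | @aut R₁ Q₁ α hc hα hQR =>
        suffices IsMap FH R₁ (autFn α) from this.mono hQR
        rw [← mem_autGroup_iff hc.1]
        refine ((Subgroup.closure_le _).2 fun b hb => ?_) hα
        obtain ⟨g, hg, h⟩ := hpel R₁ hc.1 b hb.1 hb.2
        exact (mem_autGroup_iff hc.1).2 ((isMap_subgroup_iff hTH).2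
          ⟨hc.1, g, hg, fun x hx => ⟨hc.1 (h ⟨x, hx⟩ ▸ (b ⟨x, hx⟩).2), by rw [autFn_apply b hx, h]⟩⟩)
      | conj hQ hs => exact IsMap.conj hQ hs
      | comp _ _ ih1 ih2 => exact ih1.comp ih2 fun x hx => ih1.mem_img hx
      | congr _ e ih => exact ih.congr e
    obtain ⟨β, hβ, g, hg, hfg⟩ := FusionCrit.exists_frattini hTp hEs hf
    obtain ⟨h, hh, hhe⟩ := hautT β hβ
    have hb : IsMap FH T (autFn β) := (isMap_subgroup_iff hTH).2
      ⟨le_rfl, h, hh, fun x hx => ⟨hhe ⟨x, hx⟩ ▸ (β ⟨x, hx⟩).2, by rw [autFn_apply β hx, hhe]⟩⟩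
    exact ((hgen hg).comp hb fun x hx => (hgen hg).mem hx).congr fun x hx => (hfg x hx).symm
  refine ext_of_le hsub (le_of_isMap fun P₁ f hf => ?_)
  obtain ⟨hP₁, h, hh, hhe⟩ := (isMap_subgroup_iff hTH).1 hf
  have hhA : res h ∈ A := (hHM hh).1
  have hiso : IsIso E R R (autFn (res h)) := isIso_autFn hRT hhA
  obtain ⟨-, hrec⟩ := isReceptive_iff.1 (receptive_of_fullyNormalized hTp hEs hRfn)
  obtain ⟨k, hk, hke⟩ := hrec R _ hiso
  have hTR : T ≤ Subgroup.normalizer (R : Set G) := fun t _ => by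
    rw [Subgroup.normalizer_eq_top]; trivial
  have hNle : P₁ ⊔ R ≤ Nx T R (autFn (res h)) := by
    refine sup_le (fun x hx => ?_) (le_Nx hiso.1)
    refine mem_Nx.2 ⟨⟨hP₁ hx, hTR (hP₁ hx)⟩, h * x * h⁻¹, ?_, fun y hy => ?_⟩
    · obtain ⟨h1, h2⟩ := hhe x hx
      exact h2 ▸ h1
    · have hxy : x * y * x⁻¹ ∈ R := hRn.conj_mem y hy x
      rw [autFn_apply _ hy, autFn_apply _ hxy, hres_apply, hres_apply]
      show h * (x * y * x⁻¹) * h⁻¹ = _
      group
  have hk' : IsMap FH (P₁ ⊔ R) k := isMap_of_le hsub (hk.mono hNle)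
  have hch : IsMap FH (P₁ ⊔ R) fun x => h * x * h⁻¹ := by
    refine (isMap_subgroup_iff hTH).2 ⟨sup_le hP₁ hRT, h, hh, fun x hx => ⟨?_, rfl⟩⟩
    have : P₁ ⊔ R ≤ T.comap (MulAut.conj h).toMonoidHom := sup_le (fun y hy => by
      obtain ⟨h1, h2⟩ := hhe y hy
      show h * y * h⁻¹ ∈ T
      exact h2 ▸ h1) fun y hy => hRT (hRn.conj_mem y hy h)
    exact this hx
  have hRc : FH.IsCentric R := by
    refine ⟨hRT, fun R' hR' => ?_⟩
    obtain ⟨f', hf'⟩ := isConj_iff.1 hR'
    rw [eq_of_le_of_card (P := R') hRT (fun y hy => by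
      obtain ⟨x, hx, rfl⟩ := hf'.exists_eq hy
      obtain ⟨-, a, -, ha⟩ := (isMap_subgroup_iff hTH).1 hf'.1
      rw [(ha x hx).2]
      exact hRn.conj_mem x hx a) hf'.card_eq.ge]
    exact fun x hx => hCT x hx.1 hx.2
  obtain ⟨q, hq, hqe⟩ := FusionCrit.exists_eq_conj_of_eqOn_centric hTp hFHs hRc le_sup_right
    (fun x hx => ⟨(sup_le hP₁ hRT) hx, hTR ((sup_le hP₁ hRT) hx)⟩) hch hk' fun x hx => by
      rw [hke x hx, autFn_apply _ hx, hres_apply]
  have hqN : q ∈ P₁ ⊔ R := Subgroup.mem_sup_right hq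
  refine (((IsMap.conj (F := E) (sup_le hP₁ hRT) (hRT hq)).comp (hk.mono hNle)
    fun x hx => mul_mem (mul_mem hqN hx) (inv_mem hqN)).mono le_sup_left).congr fun x hx => ?_
  rw [(hhe x hx).2]
  exact (hqe x (Subgroup.mem_sup_left hx)).symm

end Existence

section Uniqueness

variable (S : Sylow p G) {T : Subgroup G}

/-- The normal subgroup is determined by its fusion system. -/
theorem normal_subgroup_unique
    (hG : Subgroup.centralizer ((pCore p G : Subgroup G) : Set G) ≤ pCore p G)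
    (hT : (groupFusionSystem (S : Subgroup G)).StronglyClosed T) {H H' : Subgroup G}
    (hTH : T ≤ H) (hTH' : T ≤ H') [H.Normal] [hH'n : H'.Normal] (hs : IsSylowIn p T H)
    (hs' : IsSylowIn p T H')
    (he : ∀ P, (fusionSystemOfSubgroup H T hTH).Hom P ⊆ (fusionSystemOfSubgroup H' T hTH').Hom P) :
    H ≤ H' := by
  set Q := pCore p G with hQdef
  have hQn : Q.Normal := PReduced.pCore_normal p G
  set R := Q ⊓ T with hRdef
  haveI hRn : R.Normal := normal_pCore_inf S hT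
  set K := H ⊔ H' with hK
  haveI hKn : K.Normal := Subgroup.sup_normal H H'
  have hcop : (T.relIndex K).Coprime p := by
    have hidx : ∀ {H₁ : Subgroup G}, T ≤ H₁ → IsSylowIn p T H₁ → (T.relIndex H₁).Coprime p :=
      fun {H₁} hle h => by
        obtain ⟨R', hR'⟩ := (isSylowIn_iff_exists hle).1 h
        rw [Subgroup.relIndex, ← hR']
        exact ((Fact.out : p.Prime).coprime_iff_not_dvd.2 R'.not_dvd_index).symm
    rw [← Subgroup.relIndex_mul_relIndex T H' K hTH' le_sup_right]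
    refine Nat.Coprime.mul_left (hidx hTH' hs') ?_
    have h1 : H'.relIndex K = H'.relIndex H := by
      rw [hK, Subgroup.relIndex_sup_right]
    rw [h1, ← Subgroup.inf_relIndex_left H H', inf_comm]
    have h2 := Subgroup.relIndex_mul_relIndex T (H' ⊓ H) H (le_inf hTH' hTH) inf_le_right
    exact Nat.Coprime.coprime_dvd_left ⟨T.relIndex (H' ⊓ H), by rw [← h2, mul_comm]⟩ (hidx hTH hs)
  have hTK : T ≤ K := hTH.trans le_sup_left
  have hKs : IsSylowIn p T K := by
    refine (isSylowIn_iff_exists hTK).2 ⟨((isPGroup_subgroupOf hTK).2 hs.isPGroup).toSylow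
      ((Fact.out : p.Prime).coprime_iff_not_dvd.1 hcop.symm), rfl⟩
  have hQK : Q ⊓ K ≤ T := by
    intro x hx
    obtain ⟨a, -, hac⟩ := hKs.exists_conj_le
      ((PReduced.isPGroup_pCore p).to_le (inf_le_left : Q ⊓ K ≤ Q)) inf_le_right
    have h1 := hac (a⁻¹ * x * a) (by simpa using
      (Subgroup.normal_inf_normal Q K).conj_mem x hx a⁻¹)
    simpa [mul_assoc] using h1
  intro h hh
  let f : G → G := fun x => h * x * h⁻¹
  have hf : IsMap (fusionSystemOfSubgroup H T hTH) R f := (isMap_subgroup_iff hTH).2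
    ⟨inf_le_right, h, hh, fun x hx => ⟨(hRn.conj_mem x hx h).2, rfl⟩⟩
  obtain ⟨φ, hφ, e⟩ := hf
  obtain ⟨-, h', hh', hh'e⟩ := (isMap_subgroup_iff hTH').1 (⟨φ, he R hφ, e⟩ : IsMap _ R f)
  have hc : h'⁻¹ * h ∈ K :=
    mul_mem (inv_mem (Subgroup.mem_sup_right hh')) (Subgroup.mem_sup_left hh)
  have hcR : h'⁻¹ * h ∈ Subgroup.centralizer (R : Set G) := by
    refine Subgroup.mem_centralizer_iff.2 fun x hx => ?_
    have h2 : h * x * h⁻¹ = h' * x * h'⁻¹ := (hh'e x hx).2
    have e : h'⁻¹ * h * x * (h'⁻¹ * h)⁻¹ = x := by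
      calc _ = h'⁻¹ * (h * x * h⁻¹) * h' := by group
        _ = x := by rw [h2]; group
    exact (mul_inv_eq_iff_eq_mul.1 e).symm
  have hcQ : h'⁻¹ * h ∈ Q := by
    refine stab_inf_ker_le hG R inf_le_left ⟨mem_stab.2 fun q hq => ?_, hcR⟩
    have hmem : q⁻¹ * (h'⁻¹ * h * q * (h'⁻¹ * h)⁻¹) ∈ Q ⊓ K := by
      refine ⟨Q.mul_mem (Q.inv_mem hq) (hQn.conj_mem q hq _), ?_⟩
      have := K.mul_mem (hKn.conj_mem _ hc q⁻¹) (K.inv_mem hc)
      simpa [mul_assoc] using this
    exact ⟨hmem.1, hQK hmem⟩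
  have := H'.mul_mem hh' (hTH' (hQK ⟨hcQ, hc⟩))
  rwa [mul_inv_cancel_left] at this

end Uniqueness

end Cfsg.Agent.FusionConstrained
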