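import Cfsg.Agent.EqLemmas
import Cfsg.Agent.Lib.Fusion.Realized
import Cfsg.Agent.Lib.Fusion.NormalSeries
import Cfsg.Agent.Lib.FusionIso.Subgroup
import Cfsg.Agent.Lib.PReduced.Tools

/-
A saturated subsystem of a constrained system over a strongly closed subgroup is constrained; the
fusion systems of subnormal subgroups of a group with constrained fusion system are constrained.
Main results: `isNormal_inter_of_normal`, `isConstrained_of_subsystem`, `isConstrained_subnormal`.
-/

set_option autoImplicit false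

namespace Cfsg.Agent.FusionConstrained

open Cfsg Cfsg.FusionSystem Cfsg.Agent.Fusion

variable {Ω : Type*} [Group Ω] {S : Subgroup Ω} {F : FusionSystem S}

/-- A strongly closed part of a normal subgroup is normal. -/
theorem isNormal_inter_of_normal [Finite S] {Q T : Subgroup Ω} (hQ : F.IsNormal Q)
    (hT : F.StronglyClosed T) : F.IsNormal (Q ⊓ T) := by
  refine FusionChain.isNormal_iff.2 ⟨inf_le_right.trans hT.1, fun P f hf => ?_⟩
  obtain ⟨g, hg, hgf, hgQ⟩ := (FusionChain.isNormal_iff.1 hQ).2 P f hf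
  exact ⟨g, hg.mono (sup_le_sup_left inf_le_left P), hgf, fun x hx =>
    ⟨hgQ x hx.1, (stronglyClosed_iff.1 hT).2 _ g hg x (Subgroup.mem_sup_right hx.1) hx.2⟩⟩

/-- A strongly closed subgroup stabilising `1 ≤ N ≤ Q`, for `Q` normal and centric, is normal. -/
theorem isNormal_of_stabilizing [Finite S] {p : ℕ} [Fact p.Prime] (hS : IsPGroup p S)
    (hF : F.IsSaturated p) {Q N C : Subgroup Ω} (hQ : F.IsNormal Q) (hCQ : centralizerIn S Q ≤ Q)
    (hNc : F.StronglyClosed N) (hC : F.StronglyClosed C)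
    (hfix : ∀ c ∈ C, ∀ x ∈ N, c * x = x * c)
    (hstab : ∀ c ∈ C, ∀ x ∈ Q, x⁻¹ * (c * x * c⁻¹) ∈ N) : F.IsNormal C := by
  have hQc := stronglyClosed_of_normal hQ
  refine isNormal_of_stronglyClosed_le hS hF hC fun R _ hc hr => ?_
  have hQR : Q ≤ R := le_radical_of_normal hS hQ hc hr
  refine le_of_normalizer_inf_le hS hc.1 hC.1 (hc.1.trans (normalizes_of_stronglyClosed hC))
    fun q hq hqN => ?_
  have := finite_mulAut hc.1
  have := finite_of_le hc.1
  let L : Subgroup (MulAut R) :=
    { carrier := {α | α ∈ F.autGroup R ∧ (∀ x : R, (x : Ω) ∈ N → α x = x) ∧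
        ∀ x : R, (x : Ω) ∈ Q → (x : Ω)⁻¹ * (α x : R) ∈ N}
      one_mem' := ⟨one_mem _, fun x _ => rfl, fun x _ => by simp⟩
      mul_mem' := by
        rintro a b ⟨ha, ha1, ha2⟩ ⟨hb, hb1, hb2⟩
        refine ⟨mul_mem ha hb, fun x hx => by rw [MulAut.mul_apply, hb1 x hx, ha1 x hx],
          fun x hx => ?_⟩
        have hn : ((x⁻¹ * b x : R) : Ω) ∈ N := hb2 x hx
        have e : a (b x) = a x * (x⁻¹ * b x) := by
          conv_lhs => rw [← mul_inv_cancel_left x (b x), map_mul, ha1 _ hn]
        rw [MulAut.mul_apply, e, Subgroup.coe_mul, ← mul_assoc]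
        exact mul_mem (ha2 x hx) hn
      inv_mem' := by
        rintro a ⟨ha, ha1, ha2⟩
        refine ⟨inv_mem ha, fun x hx => ?_, fun x hx => ?_⟩
        · conv_lhs => rw [← ha1 x hx]
          exact MulAut.inv_apply_self _ _ _
        · have hy : ((a⁻¹ x : R) : Ω) ∈ Q := by
            have := autFn_mem_of_stronglyClosed hQc hc.1 (inv_mem ha) x.2 hx
            rwa [autFn_apply _ x.2] at this
          have h1 := ha2 _ hy
          rw [MulAut.apply_inv_self] at h1
          simpa using inv_mem h1 }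
  have hL : L ≤ FusionChain.pCoreAut F p R := by
    refine FusionChain.le_pCoreAut (FusionChain.isPGroup_of_coprime_trivial fun β hβ => ?_)
      (fun α hα => hα.1) fun α hα k hk => ?_
    · obtain ⟨b, hb⟩ := β
      obtain ⟨-, hb1, hb2⟩ := id hb
      have hcop : (orderOf b).Coprime p := by rwa [← Subgroup.orderOf_coe] at hβ
      have hQfix : ∀ x : R, (x : Ω) ∈ Q → b x = x := fun x hx =>
        FusionChain.eq_self_of_stab (hS.to_le hc.1) b hcop (N.subgroupOf R) hb1 x (hb2 x hx)
      refine Subtype.ext (MulEquiv.ext fun x => ?_)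
      refine FusionChain.eq_self_of_stab (hS.to_le hc.1) b hcop (Q.subgroupOf R) hQfix x
        (hCQ (mem_centralizerIn.2 ⟨hc.1 (x⁻¹ * b x : R).2, fun y hy => ?_⟩))
      have hyR : y ∈ R := hQR hy
      have hm : ((x * ⟨y, hyR⟩ * x⁻¹ : R) : Ω) ∈ Q := conj_mem_of_stronglyClosed hQc (hc.1 x.2) hy
      have e := hQfix _ hm
      rw [map_mul, map_mul, map_inv, hQfix ⟨y, hyR⟩ hy] at e
      have e' := congrArg (fun z : R => ((x : Ω)⁻¹ * z * (b x : R) : Ω)) e
      simpa [mul_assoc] using e'
    · obtain ⟨hk0, hk1, hk2⟩ := hk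
      refine ⟨mul_mem (mul_mem hα hk0) (inv_mem hα), fun y hy => ?_, fun y hy => ?_⟩
      · have hxN : ((α⁻¹ y : R) : Ω) ∈ N := by
          have := autFn_mem_of_stronglyClosed hNc hc.1 (inv_mem hα) y.2 hy
          rwa [autFn_apply _ y.2] at this
        rw [MulAut.mul_apply, MulAut.mul_apply, hk1 _ hxN, MulAut.apply_inv_self]
      · have hxQ : ((α⁻¹ y : R) : Ω) ∈ Q := by
          have := autFn_mem_of_stronglyClosed hQc hc.1 (inv_mem hα) y.2 hy
          rwa [autFn_apply _ y.2] at this
        obtain ⟨x, rfl⟩ := α.surjective y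
        rw [MulAut.inv_apply_self] at hxQ
        rw [MulAut.mul_apply, MulAut.mul_apply, MulAut.inv_apply_self]
        have hm := autFn_mem_of_stronglyClosed hNc hc.1 hα (x⁻¹ * k x : R).2 (hk2 x hxQ)
        rw [autFn_apply α (x⁻¹ * k x : R).2] at hm
        have hm' : ((α (x⁻¹ * k x) : R) : Ω) ∈ N := hm
        simpa using hm'
  refine FusionChain.mem_of_mem_pCoreAut (α := normConj S R ⟨q, hqN⟩) hc hr hqN.1
    (hL ⟨autInducedBy_le_autGroup F le_rfl hc.1 ((range_normConj S R).le ⟨_, rfl⟩),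
      fun x hx => Subtype.ext ?_, fun x hx => ?_⟩) fun x => rfl
  · show q * (x : Ω) * q⁻¹ = x
    rw [hfix q hq _ hx, mul_inv_cancel_right]
  · exact hstab q hq x hx

/-- A saturated subsystem of a constrained system over a strongly closed subgroup is constrained. -/
theorem isConstrained_of_subsystem [Finite S] {p : ℕ} [Fact p.Prime] (hS : IsPGroup p S)
    (hF : F.IsConstrained p) {T : Subgroup Ω} {E : FusionSystem T} (hEs : E.IsSaturated p)
    (hsub : E.IsSubsystemOf F) (hT : F.StronglyClosed T) : E.IsConstrained p := by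
  have hnc := nc_core hS hF
  have hQ : F.IsNormal F.core := hnc.nor
  have hCQ : centralizerIn S F.core ≤ F.core := hnc.centralizer_le
  set Q := F.core with hQdef
  set N := Q ⊓ T with hNdef
  have hfin : Finite T := finite_of_le hT.1
  have hN : F.IsNormal N := isNormal_inter_of_normal hQ hT
  have hQc := stronglyClosed_of_normal hQ
  have hNc := stronglyClosed_of_normal hN
  have hres : ∀ A, A ≤ T → F.StronglyClosed A → E.StronglyClosed A := fun A hA hAc =>
    stronglyClosed_iff.2 ⟨hA, fun P f hf x hxP hx => by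
      obtain ⟨φ, hφ, e⟩ := hf
      exact (stronglyClosed_iff.1 hAc).2 P f ⟨φ, hsub P hφ, e⟩ x hxP hx⟩
  have hNE : E.IsNormal N := by
    obtain ⟨n, hn⟩ := exists_lowerCentralSeries_eq_bot (S := S) hS hN.1
    refine isNormal_of_chain (hS.to_le hT.1) hEs n (fun i => N.lowerCentralSeries (n - i))
      (by simpa using hn) (by simp [Subgroup.lowerCentralSeries_zero])
      (fun i j hij => N.lowerCentralSeries_antitone (by omega)) (hres N inf_le_right hNc)
      (fun i _ _ => hres _ ((lowerCentralSeries_le_self N _).trans inf_le_right)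
        (stronglyClosed_lowerCentralSeries hN _)) fun i hi => ?_
    rw [show n - i = n - (i + 1) + 1 by omega, Subgroup.lowerCentralSeries_succ,
      Subgroup.commutator_comm]
  set C := centralizerIn T N with hCdef
  have hC : F.StronglyClosed C := by
    refine stronglyClosed_iff.2 ⟨inf_le_left.trans hT.1, fun P f hf x hxP hx => ?_⟩
    obtain ⟨g, hg, hgf, hgN⟩ := (FusionChain.isNormal_iff.1 hN).2 P f hf
    refine mem_centralizerIn.2 ⟨(stronglyClosed_iff.1 hT).2 P f hf x hxP hx.1, fun q hq => ?_⟩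
    have himg : img g N = N := eq_of_le_of_card hN.1 (hg.img_le le_sup_right hgN)
      (hg.card_img le_sup_right).ge
    obtain ⟨q', hq', rfl⟩ := (hg.mem_img_iff (le_sup_right : N ≤ P ⊔ N)).1 (himg.symm ▸ hq)
    rw [← hgf x hxP, ← hg.map_mul (Subgroup.mem_sup_right hq') (Subgroup.mem_sup_left hxP),
      ← hg.map_mul (Subgroup.mem_sup_left hxP) (Subgroup.mem_sup_right hq'),
      (mem_centralizerIn.1 hx).2 q' hq']
  have hCn : F.IsNormal C := by
    refine isNormal_of_stabilizing hS hF.1 hQ hCQ hNc hC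
      (fun c hc x hx => (mem_centralizerIn.1 hc).2 x hx) fun c hc x hx => ⟨?_, ?_⟩
    · exact Subgroup.mul_mem _ (Subgroup.inv_mem _ hx)
        (conj_mem_of_stronglyClosed hQc (hT.1 hc.1) hx)
    · have := mul_mem (conj_mem_of_stronglyClosed hT (inv_mem (hQ.1 hx)) hc.1) (inv_mem hc.1)
      simpa [mul_assoc] using this
  refine ⟨hEs, N, hNE, inf_le_right, fun R hR => ?_⟩
  obtain ⟨f, hf⟩ := isConj_iff.1 hR
  have : R = N := eq_of_le_of_card hNE.1 (fun y hy => by
    obtain ⟨x, hx, rfl⟩ := hf.exists_eq hy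
    exact (stronglyClosed_iff.1 (hres N inf_le_right hNc)).2 N f hf.1 x hx hx) hf.card_eq.ge
  rw [this]
  exact le_inf ((normal_le_core hCn)) inf_le_left

section Group

variable {G : Type*} [Group G] [Finite G] {p : ℕ} [Fact p.Prime]

theorem isConstrained_subnormal (P : Sylow p G)
    (hF : (groupFusionSystem (P : Subgroup G)).IsConstrained p) {H : Subgroup G}
    (hH : H.IsSubnormal) :
    (fusionSystemOfSubgroup H ((P : Subgroup G) ⊓ H) inf_le_right).IsConstrained p := by
  induction hH with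
  | top =>
    suffices ∀ (T : Subgroup G) (h : T ≤ ⊤), T = P →
        (fusionSystemOfSubgroup ⊤ T h).IsConstrained p from this _ _ (inf_top_eq _)
    rintro T h rfl
    have e : fusionSystemOfSubgroup ⊤ (P : Subgroup G) h = groupFusionSystem (P : Subgroup G) :=
      ext_of_hom fun Q => by
        ext φ
        exact ⟨fun ⟨a, b, g, _, hg⟩ => ⟨a, b, g, hg⟩, fun ⟨a, b, g, hg⟩ => ⟨a, b, g, trivial, hg⟩⟩
    rw [e]
    exact hF
  | @step H K hHK hK hN ih =>
    have hsn : H.IsSubnormal := .step H K hHK hK hN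
    haveI := hN
    refine isConstrained_of_subsystem (P.isPGroup'.to_le inf_le_left) ih ?_ ?_ ?_
    · refine FusionIso.isSaturated_subgroup ((isSylowIn_iff_exists inf_le_right).2
        ⟨PReduced.sylowOfSubnormal P hsn, ?_⟩)
      rw [PReduced.sylowOfSubnormal_coe, Subgroup.inf_subgroupOf_right]
    · rintro Q φ ⟨hQ, hφ, g, hg, e⟩
      exact ⟨hQ.trans (inf_le_inf_left _ hHK), fun x => inf_le_inf_left _ hHK (hφ x), g, hHK hg, e⟩
    · refine stronglyClosed_iff.2 ⟨inf_le_inf_left _ hHK, fun Q f hf x hxQ hx => ?_⟩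
      obtain ⟨hQ, g, hg, h⟩ := (isMap_subgroup_iff inf_le_right).1 hf
      obtain ⟨h1, h2⟩ := h x hxQ
      refine ⟨h2 ▸ h1.1, ?_⟩
      rw [h2]
      exact hN.conj_mem ⟨x, hHK hx.2⟩ hx.2 ⟨g, hg⟩

end Group

end Cfsg.Agent.FusionConstrained
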