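import Cfsg.Agent.EqLemmas
import Cfsg.Agent.Lib.FusionConstrained.Subsystem

/-
The fusion system of a central quotient of a group with constrained fusion system is constrained.
Main results: `mem_sylow_of_central`, `isConstrained_central_quotient`.
-/

set_option autoImplicit false

namespace Cfsg.Agent.FusionConstrained

open Cfsg Cfsg.FusionSystem Cfsg.Agent.Fusion
open scoped Pointwise

variable {G : Type*} [Group G] [Finite G] {p : ℕ} [Fact p.Prime]

/-- A `p`-element of `T Z`, for `Z` central, lies in the Sylow subgroup `T`. -/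
theorem mem_sylow_of_central (T : Sylow p G) {y t : G} (hy : IsPGroup p (Subgroup.zpowers y))
    (ht : t ∈ (T : Subgroup G)) (hz : t⁻¹ * y ∈ Subgroup.center G) : y ∈ (T : Subgroup G) := by
  set z := t⁻¹ * y with hzdef
  have hcomm : Commute t⁻¹ y := by
    have h1 : t⁻¹ * z = z * t⁻¹ := Subgroup.mem_center_iff.1 hz t⁻¹
    have h2 : y = t * z := by rw [hzdef, mul_inv_cancel_left]
    show t⁻¹ * y = y * t⁻¹
    rw [← hzdef, h2, mul_assoc, ← h1, ← mul_assoc, mul_inv_cancel, one_mul]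
  have hzp : IsPGroup p (Subgroup.zpowers z) := by
    obtain ⟨i, hi⟩ := T.isPGroup' ⟨t⁻¹, inv_mem ht⟩
    obtain ⟨j, hj⟩ := hy ⟨y, Subgroup.mem_zpowers y⟩
    have hi' : t⁻¹ ^ p ^ i = 1 := congrArg Subtype.val hi
    have hj' : y ^ p ^ j = 1 := congrArg Subtype.val hj
    refine fun w => ⟨i + j, ?_⟩
    obtain ⟨w, k, rfl⟩ := w
    refine Subtype.ext ?_
    show (z ^ k) ^ p ^ (i + j) = 1
    have hz1 : z ^ p ^ (i + j) = 1 := by
      rw [hzdef, hcomm.mul_pow, pow_add, pow_mul, hi', one_pow, one_mul, mul_comm, pow_mul, hj',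
        one_pow]
    rw [← zpow_natCast, ← zpow_mul, mul_comm, zpow_mul, zpow_natCast, hz1, one_zpow]
  have hn : (Subgroup.zpowers z).Normal := ⟨fun w hw g => by
    have hwc : w ∈ Subgroup.center G := Subgroup.zpowers_le.2 hz hw
    rwa [Subgroup.mem_center_iff.1 hwc g, mul_inv_cancel_right]⟩
  have hzT : z ∈ (T : Subgroup G) :=
    le_sylow_of_normal hn hzp T (Subgroup.mem_zpowers z)
  have := mul_mem ht hzT
  rwa [hzdef, mul_inv_cancel_left] at this
where
  le_sylow_of_normal {N : Subgroup G} (hN : N.Normal) (hp : IsPGroup p N) (T : Sylow p G) :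
      N ≤ (T : Subgroup G) := by
    obtain ⟨R, hR⟩ := hp.exists_le_sylow
    obtain ⟨g, rfl⟩ := MulAction.exists_smul_eq G R T
    intro x hx
    have h1 : g⁻¹ * x * g ∈ N := by simpa using hN.conj_mem x hx g⁻¹
    rw [Sylow.coe_subgroup_smul, Subgroup.mem_pointwise_smul_iff_inv_smul_mem]
    simpa [MulAut.smul_def] using hR h1

/-- A central quotient keeps constrainedness. -/
theorem isConstrained_central_quotient (T : Sylow p G)
    (hF : (groupFusionSystem (T : Subgroup G)).IsConstrained p) (Z : Subgroup G) [Z.Normal]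
    (hZ : Z ≤ Subgroup.center G) :
    (groupFusionSystem ((T : Subgroup G).map (QuotientGroup.mk' Z))).IsConstrained p := by
  set π := QuotientGroup.mk' Z with hπ
  have hπs : Function.Surjective π := QuotientGroup.mk'_surjective Z
  have hsat : (groupFusionSystem ((T : Subgroup G).map π)).IsSaturated p := by
    have := isSaturated_group (T.mapSurjective hπs)
    rwa [Sylow.coe_mapSurjective] at this
  have hS : IsPGroup p (T : Subgroup G) := T.isPGroup'
  have hnc := nc_core hS hF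
  have hQ : (groupFusionSystem (T : Subgroup G)).IsNormal (groupFusionSystem (T : Subgroup G)).core :=
    hnc.nor
  have hCQ := hnc.centralizer_le
  set F := groupFusionSystem (T : Subgroup G) with hFdef
  set Q := F.core with hQdef
  have hker : ∀ {a b : G}, π a = π b → a⁻¹ * b ∈ Z := fun {a b} h => QuotientGroup.eq.1 h
  -- lifting maps of the quotient
  have hlift : ∀ (P' : Subgroup (G ⧸ Z)) (f : G ⧸ Z → G ⧸ Z),
      IsMap (groupFusionSystem ((T : Subgroup G).map π)) P' f →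
      P' ≤ (T : Subgroup G).map π ∧
        ∃ g : G, (∀ x ∈ (T : Subgroup G) ⊓ P'.comap π, f (π x) = π (g * x * g⁻¹)) ∧
          IsMap F ((T : Subgroup G) ⊓ P'.comap π) (fun x => g * x * g⁻¹) := by
    intro P' f hf
    obtain ⟨hP, gb, hg⟩ := isMap_group_iff.1 hf
    obtain ⟨g, rfl⟩ := hπs gb
    have e : ∀ x ∈ (T : Subgroup G) ⊓ P'.comap π,
        f (π x) ∈ (T : Subgroup G).map π ∧ f (π x) = π (g * x * g⁻¹) := fun x hx => by
      refine ⟨?_, ?_⟩
      · rw [(hg _ hx.2).2]; exact (hg _ hx.2).1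
      · rw [(hg _ hx.2).2, map_mul, map_mul, map_inv]
    refine ⟨hP, g, fun x hx => (e x hx).2, isMap_group_iff.2 ⟨inf_le_left, g, fun x hx => ⟨?_, rfl⟩⟩⟩
    obtain ⟨t, ht, htx⟩ := (e x hx).1
    rw [(e x hx).2] at htx
    refine mem_sylow_of_central T ?_ ht (hZ (hker htx))
    have h1 : IsPGroup p (Subgroup.zpowers x) := hS.to_le (Subgroup.zpowers_le.2 hx.1)
    have h2 : Subgroup.zpowers (g * x * g⁻¹) =
        (Subgroup.zpowers x).map (MulAut.conj g).toMonoidHom :=
      (MonoidHom.map_zpowers (MulAut.conj g).toMonoidHom x).symm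
    rw [h2]
    exact h1.map _
  have hQT : Q ≤ (T : Subgroup G) := hQ.1
  have hQ' : (groupFusionSystem ((T : Subgroup G).map π)).IsNormal (Q.map π) := by
    refine FusionChain.isNormal_iff.2 ⟨Subgroup.map_mono hQT, fun P' f hf => ?_⟩
    obtain ⟨hP, g, hge, hgm⟩ := hlift P' f hf
    obtain ⟨k, hk, hkf, hkQ⟩ := (FusionChain.isNormal_iff.1 hQ).2 _ _ hgm
    obtain ⟨hle, g', hg'⟩ := isMap_group_iff.1 hk
    have hsup : P' ⊔ Q.map π ≤ (((T : Subgroup G) ⊓ P'.comap π) ⊔ Q).map π := by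
      refine sup_le (fun y hy => ?_) (Subgroup.map_mono le_sup_right)
      obtain ⟨x, hx, rfl⟩ := hP hy
      exact ⟨x, Subgroup.mem_sup_left ⟨hx, hy⟩, rfl⟩
    refine ⟨fun y => π g' * y * (π g')⁻¹, isMap_group_iff.2 ⟨sup_le hP (Subgroup.map_mono hQT),
      π g', fun y hy => ⟨?_, rfl⟩⟩, fun y hy => ?_, fun y hy => ?_⟩
    · obtain ⟨x, hx, rfl⟩ := hsup hy
      exact ⟨g' * x * g'⁻¹, (hg' x hx).1, by rw [map_mul, map_mul, map_inv]⟩
    · obtain ⟨x, hx, rfl⟩ := hP hy
      have hxP : x ∈ (T : Subgroup G) ⊓ P'.comap π := ⟨hx, hy⟩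
      show π g' * π x * (π g')⁻¹ = _
      rw [hge x hxP, ← hkf x hxP, (hg' x (Subgroup.mem_sup_left hxP)).2, map_mul, map_mul, map_inv]
    · obtain ⟨x, hx, rfl⟩ := hy
      exact ⟨k x, hkQ x hx, by
        rw [(hg' x (Subgroup.mem_sup_right hx)).2, map_mul, map_mul, map_inv]⟩
  -- the preimage of the centralizer of the image
  let X : Subgroup G := (T : Subgroup G) ⊓ (Subgroup.centralizer (Q.map π : Set (G ⧸ Z))).comap π
  have hXmem : ∀ {x : G}, x ∈ X ↔ x ∈ (T : Subgroup G) ∧ ∀ q ∈ Q, π q * π x = π x * π q := by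
    intro x
    refine ⟨fun h => ⟨h.1, fun q hq => Subgroup.mem_centralizer_iff.1 h.2 _ ⟨q, hq, rfl⟩⟩,
      fun h => ⟨h.1, Subgroup.mem_centralizer_iff.2 ?_⟩⟩
    rintro _ ⟨q, hq, rfl⟩
    exact h.2 q hq
  have hQc := stronglyClosed_of_normal hQ
  have hN : F.StronglyClosed (Q ⊓ Z) := by
    refine stronglyClosed_iff.2 ⟨inf_le_left.trans hQT, fun P f hf x hxP hx => ?_⟩
    refine ⟨(stronglyClosed_iff.1 hQc).2 P f hf x hxP hx.1, ?_⟩
    obtain ⟨_, g, hg⟩ := isMap_group_iff.1 hf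
    rw [(hg x hxP).2, Subgroup.mem_center_iff.1 (hZ hx.2) g, mul_inv_cancel_right]
    exact hx.2
  have hX : F.StronglyClosed X := by
    refine stronglyClosed_iff.2 ⟨inf_le_left, fun P f hf x hxP hx => ?_⟩
    obtain ⟨k, hk, hkf, hkQ⟩ := (FusionChain.isNormal_iff.1 hQ).2 P f hf
    have himg : img k Q = Q := eq_of_le_of_card hQT (hk.img_le le_sup_right hkQ)
      (hk.card_img le_sup_right).ge
    obtain ⟨_, g, hg⟩ := isMap_group_iff.1 hk
    refine hXmem.2 ⟨hf.mem hxP, fun q hq => ?_⟩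
    obtain ⟨q', hq', rfl⟩ := (hk.mem_img_iff (le_sup_right : Q ≤ P ⊔ Q)).1 (himg.symm ▸ hq)
    rw [← hkf x hxP, (hg q' (Subgroup.mem_sup_right hq')).2, (hg x (Subgroup.mem_sup_left hxP)).2]
    have := (hXmem.1 hx).2 q' hq'
    simp only [map_mul, map_inv]
    calc _ = π g * (π q' * π x) * (π g)⁻¹ := by group
      _ = π g * (π x * π q') * (π g)⁻¹ := by rw [this]
      _ = _ := by group
  have hXn : F.IsNormal X := by
    refine isNormal_of_stabilizing hS hF.1 hQ hCQ hN hX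
      (fun c _ x hx => Subgroup.mem_center_iff.1 (hZ hx.2) c) fun c hc x hx => ⟨?_, ?_⟩
    · exact Subgroup.mul_mem _ (Subgroup.inv_mem _ hx) (conj_mem_of_stronglyClosed hQc hc.1 hx)
    · refine hker ?_
      have := (hXmem.1 hc).2 x hx
      rw [map_mul, map_mul, map_inv, ← this, mul_inv_cancel_right]
  have hQ'c := stronglyClosed_of_normal hQ'
  refine ⟨hsat, Q.map π, hQ', hQ'.1, fun R hR => ?_⟩
  obtain ⟨f, hf⟩ := isConj_iff.1 hR
  have : R = Q.map π := eq_of_le_of_card hQ'.1 (fun y hy => by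
    obtain ⟨x, hx, rfl⟩ := hf.exists_eq hy
    exact (stronglyClosed_iff.1 hQ'c).2 _ f hf.1 x hx hx) hf.card_eq.ge
  rw [this]
  rintro y ⟨⟨x, hx, rfl⟩, hy⟩
  exact ⟨x, normal_le_core hXn ⟨hx, hy⟩, rfl⟩

end Cfsg.Agent.FusionConstrained
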